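import Cfsg.Agent.H187.Ore.HNX1
import Cfsg.Agent.H991.SN.HN
import Cfsg.Agent.H536.T5.HNRow
import Cfsg.Agent.H555.Hall.HNFiveB
import Cfsg.Agent.H555.Hall.HNThree
import Cfsg.Agent.H755.CC.HNThree

/-!
# Ore, row HN: elements of order divisible by 15 (helper187)

* `not_five_OO`, `card_Ob` : `O(C(X3))` is a 3-group of order dividing `3 ^ 5`;
* `types` : an element of order 3 commuting with an element of order 5 is conjugate to `X1` or `X3`;
* `card_cent_le` : `|C(g)| ≤ 2430` for `g` of order divisible by 15.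
-/

set_option autoImplicit false
set_option maxRecDepth 100000

namespace Cfsg.Agent.H187.Ore.HN15

open Subgroup Cfsg Cfsg.Agent
open Cfsg.Agent.CpAutHN
open Cfsg.Agent.CpAutHN.Alt
open Cfsg.Agent.CpAutHN.Tr
open Cfsg.Agent.CpAutHN.Pairs
open Cfsg.Agent.KFacts.HN (A5 PP mem_PP card_PP ρ φA φB φB_inj)
open Cfsg.Agent.H569.HNThree (card_G finite_G MM ss order_ss S3X3 comm_core index_X3 mk mk_core sg sg_mem V3 inv_VX)
open Cfsg.Agent.H478.HNThree
open Cfsg.Agent.H991.SN.HN (card_MM card_A5 Ob_comm five_comm conj_X3_of_perm)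
open Cfsg.Agent.H701.Wf.HN (ff ff_surj mem_OO_of_ff)
open Cfsg.Agent.H187.Ore.HNX1
open Equiv.Perm (mem_alternatingGroup)

attribute [local instance] Cfsg.Agent.H569.HNThree.finite_G

local instance : Fact (Nat.Prime 3) := ⟨Nat.prime_three⟩
local instance : Fact (Nat.Prime 5) := ⟨Nat.prime_five⟩

/-! ### permutations -/

theorem five_dvd {a f : Equiv.Perm (Fin 12)} (hf : orderOf f = 5) (hc : a * f = f * a) :
    5 ∣ Nat.card (centralizer ({a} : Set (Equiv.Perm (Fin 12)))) := by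
  have hm : f ∈ centralizer ({a} : Set (Equiv.Perm (Fin 12))) := mem_centralizer_singleton_iff.2 hc.symm
  have h := orderOf_dvd_natCard (⟨f, hm⟩ : ↥(centralizer ({a} : Set (Equiv.Perm (Fin 12)))))
  rwa [Subgroup.orderOf_mk, hf] at h

/-- elements of order 3 of `A12` commuting with elements of order 5 are conjugate to `X1` -/
theorem conj_X1_of_five {a f : A12} (ha : orderOf a = 3) (hf : orderOf f = 5) (hc : a * f = f * a) :
    ∃ c : G, c * Φ a * c⁻¹ = X1 := by
  obtain ⟨a, haA⟩ := a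
  obtain ⟨f, hfA⟩ := f
  rw [Subgroup.orderOf_mk] at ha hf
  have hc' : a * f = f * a := congrArg Subtype.val hc
  have ha3 : a ^ 3 = 1 := by rw [← ha, pow_orderOf_eq_one]
  have ha1 : a ≠ 1 := by
    intro h
    rw [h, orderOf_one] at ha
    norm_num at ha
  have key : ∀ r v w : Equiv.Perm (Fin 12), v ∈ alternatingGroup (Fin 12) → w ∈ alternatingGroup (Fin 12) →
      v * v = 1 → v ≠ 1 → w * w = 1 → w ≠ 1 → v ≠ w → v * w = w * v → r * v = v * r → r * w = w * r →
      a.cycleType = r.cycleType → ∃ c : G, c * Φ ⟨a, haA⟩ * c⁻¹ = X1 := by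
    intro r v w hv hw v2 v1 w2 w1 hne hvw c1 c2 hct
    obtain ⟨g, hg⟩ := isConj_iff.1 (Equiv.Perm.isConj_iff_cycleType_eq.2 hct.symm)
    have hmem : ∀ t ∈ alternatingGroup (Fin 12), g * t * g⁻¹ ∈ alternatingGroup (Fin 12) := by
      intro t ht
      rw [mem_alternatingGroup] at ht ⊢
      rw [map_mul, map_mul, ht, mul_one, ← map_mul, mul_inv_cancel, map_one]
    have hmul : ∀ s t : Equiv.Perm (Fin 12), g * s * g⁻¹ * (g * t * g⁻¹) = g * (s * t) * g⁻¹ := by
      intro s t
      group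
    refine conj_X1_of_perm (v := g * v * g⁻¹) (w := g * w * g⁻¹) haA (hmem v hv) (hmem w hw)
      (by rw [← ha3, pow_succ, pow_two]) ha1 (by rw [hmul, v2, mul_one, mul_inv_cancel])
      (fun h => v1 (conj_eq_one_iff.1 h)) (by rw [hmul, w2, mul_one, mul_inv_cancel])
      (fun h => w1 (conj_eq_one_iff.1 h)) (fun h => hne (mul_left_cancel (mul_right_cancel h))) ?_ ?_ ?_
    · rw [hmul, hmul, hvw]
    · rw [← hg, hmul, hmul, c1]
    · rw [← hg, hmul, hmul, c2]
  obtain ⟨n, hn⟩ := Equiv.Perm.cycleType_prime_order (σ := a) (by rw [ha]; exact Nat.prime_three)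
  rw [ha] at hn
  have h1 : n + 1 ≤ 4 := by
    have h2 := a.sum_cycleType_le
    rw [hn, Multiset.sum_replicate, smul_eq_mul, Fintype.card_fin] at h2
    omega
  have h5 := five_dvd hf hc'
  rw [Equiv.Perm.nat_card_centralizer, hn] at h5
  have hcase : n = 0 ∨ n = 1 ∨ n = 2 ∨ n = 3 := by omega
  rcases hcase with rfl | rfl | rfl | rfl
  · exact key x1 (cy [0, 1] * cy [2, 3]) (cy [0, 2] * cy [1, 3]) (by rw [mem_alternatingGroup]; decide +kernel)
      (by rw [mem_alternatingGroup]; decide +kernel) (by decide +kernel) (by decide +kernel) (by decide +kernel)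
      (by decide +kernel) (by decide +kernel) (by decide +kernel) (by decide +kernel) (by decide +kernel)
      (by rw [hn]; decide +kernel)
  · exact key y3 (cy [6, 7] * cy [8, 9]) (cy [6, 8] * cy [7, 9]) (by rw [mem_alternatingGroup]; decide +kernel)
      (by rw [mem_alternatingGroup]; decide +kernel) (by decide +kernel) (by decide +kernel) (by decide +kernel)
      (by decide +kernel) (by decide +kernel) (by decide +kernel) (by decide +kernel) (by decide +kernel)
      (by rw [hn]; decide +kernel)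
  · exfalso
    revert h5
    decide +kernel
  · exfalso
    revert h5
    decide +kernel

/-- a permutation of order dividing 5 preserving a set of fewer than 5 points fixes them (after helper443) -/
theorem fix_of_small {α : Type*} [DecidableEq α] (p : Equiv.Perm α) (hp : p ^ 5 = 1) (S : Finset α) (hS : S.card < 5)
    (hmap : ∀ a ∈ S, p a ∈ S) {a : α} (ha : a ∈ S) : p a = a := by
  have h1 : ∀ n : ℕ, (p ^ n) a ∈ S := by
    intro n
    induction n with
    | zero => exact ha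
    | succ n ih => rw [pow_succ', Equiv.Perm.mul_apply]; exact hmap _ ih
  obtain ⟨i, hi, j, hj, hij, h2⟩ := Finset.exists_ne_map_eq_of_card_lt_of_maps_to (s := Finset.range 5) (t := S)
    (by rw [Finset.card_range]; exact hS) (f := fun n => (p ^ n) a) (fun n _ => h1 n)
  have key : ∀ n : ℕ, 0 < n → n < 5 → (p ^ n) a = a → p a = a := by
    intro n h0 h5 hn
    have hk : ∀ k : ℕ, ((p ^ n) ^ k) a = a := by
      intro k
      induction k with
      | zero => rfl
      | succ k ih => rw [pow_succ', Equiv.Perm.mul_apply, ih, hn]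
    have hq : ∀ m q : ℕ, n * m = 5 * q + 1 → p a = a := by
      intro m q h
      have h3 := hk m
      rwa [← pow_mul, h, pow_add, pow_mul, hp, one_pow, one_mul, pow_one] at h3
    interval_cases n
    · exact hq 1 0 (by norm_num)
    · exact hq 3 1 (by norm_num)
    · exact hq 2 1 (by norm_num)
    · exact hq 4 3 (by norm_num)
  rw [Finset.mem_range] at hi hj
  have h3 : ∀ i j : ℕ, i < j → (p ^ i) a = (p ^ j) a → (p ^ (j - i)) a = a := by
    intro i j hij h
    have h4 : (p ^ j) a = (p ^ i) ((p ^ (j - i)) a) := by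
      rw [← Equiv.Perm.mul_apply, ← pow_add]; congr 2; omega
    rw [h4] at h
    exact ((p ^ i).injective h).symm
  rcases lt_or_gt_of_ne hij with h | h
  · exact key (j - i) (by omega) (by omega) (h3 i j h h2)
  · exact key (i - j) (by omega) (by omega) (h3 j i h h2.symm)

/-- the centralizer of `x1 f`, `f` of order 5 commuting with `x1` -/
theorem card_perm {f : Equiv.Perm (Fin 12)} (hf : orderOf f = 5) (hc : f * x1 = x1 * f) :
    Nat.card (centralizer ({x1 * f} : Set (Equiv.Perm (Fin 12)))) = 360 := by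
  have hf5 : f ^ 5 = 1 := by rw [← hf, pow_orderOf_eq_one]
  have hS : ∀ i : Fin 12, x1 i ≠ i → i ∈ ({9, 10, 11} : Finset (Fin 12)) := by decide +kernel
  have hS' : ∀ i ∈ ({9, 10, 11} : Finset (Fin 12)), x1 i ≠ i := by decide +kernel
  have hmap : ∀ i ∈ ({9, 10, 11} : Finset (Fin 12)), f i ∈ ({9, 10, 11} : Finset (Fin 12)) := by
    intro i hi
    apply hS
    intro h
    apply hS' i hi
    apply f.injective
    have h1 := DFunLike.congr_fun hc i
    rw [Equiv.Perm.mul_apply, Equiv.Perm.mul_apply] at h1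
    exact h1.trans h
  have hdis : Equiv.Perm.Disjoint x1 f := by
    intro i
    by_cases h : x1 i = i
    · exact Or.inl h
    · exact Or.inr (fix_of_small f hf5 {9, 10, 11} (by decide) hmap (hS i h))
  have h1 : x1.cycleType = {3} := by decide +kernel
  obtain ⟨n, hn⟩ := Equiv.Perm.cycleType_prime_order (σ := f) (by rw [hf]; exact Nat.prime_five)
  have h2 := hdis.cycleType_mul
  rw [h1, hn, hf] at h2
  have h3 := (x1 * f).sum_cycleType_le
  rw [h2, Multiset.sum_add, Multiset.sum_replicate, Multiset.sum_singleton, smul_eq_mul, Fintype.card_fin] at h3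
  have h4 : n = 0 := by omega
  subst h4
  rw [Equiv.Perm.nat_card_centralizer, h2]
  decide +kernel

/-! ### `C(X1)` -/

theorem comm_of_Φ {a b : A12} (h : Φ a * Φ b = Φ b * Φ a) : a * b = b * a :=
  Φ_inj (by rw [map_mul, map_mul, h])

/-- the elements commuting with `X1` and with an element of order 5 -/
theorem conj_X1 {w y : G} (hw : orderOf w = 3) (hy : orderOf y = 5) (hwX : w * X1 = X1 * w) (hyX : y * X1 = X1 * y)
    (hwy : w * y = y * w) : ∃ c : G, c * w * c⁻¹ = X1 := by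
  obtain ⟨a, rfl⟩ := exists_perm hwX
  obtain ⟨f, rfl⟩ := exists_perm hyX
  rw [orderOf_injective Φ Φ_inj] at hw hy
  exact conj_X1_of_five hw hy (comm_of_Φ hwy)

/-- no element of order 5 commutes with `X1` and with `X3` -/
theorem no_five {y : G} (hy : orderOf y = 5) (h1 : y * X1 = X1 * y) (h3 : y * X3 = X3 * y) : False := by
  have hX : X3 * X1 = X1 * X3 := comm_of x3_mem x1_mem (by decide +kernel)
  obtain ⟨c, hc⟩ := conj_X1 order_X3 hy hX h1 h3.symm
  exact Cfsg.Agent.H991.SN.HN.not_conj hc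

/-- **`|C(X1 y)| ≤ 360`** -/
theorem card_X1y {y : G} (hy : orderOf y = 5) (h1 : y * X1 = X1 * y) :
    Nat.card (centralizer ({X1 * y} : Set G)) ≤ 360 := by
  obtain ⟨f, rfl⟩ := exists_perm h1
  have hf : orderOf (f : Equiv.Perm (Fin 12)) = 5 := by
    rw [Subgroup.orderOf_coe, ← orderOf_injective Φ Φ_inj, hy]
  have hfx : (f : Equiv.Perm (Fin 12)) * x1 = x1 * f :=
    congrArg Subtype.val (comm_of_Φ (a := f) (b := ⟨x1, x1_mem⟩) h1)
  rw [← card_perm hf hfx]
  have hy5 : (Φ f) ^ 5 = 1 := by rw [← hy, pow_orderOf_eq_one]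
  have hX3 : X1 ^ 3 = 1 := by rw [← order_X1, pow_orderOf_eq_one]
  have h10 : (X1 * Φ f) ^ 10 = X1 := by
    rw [(show Commute X1 (Φ f) from h1.symm).mul_pow, show 10 = 3 * 3 + 1 from rfl, pow_succ, pow_mul, hX3, one_pow,
      one_mul, show 3 * 3 + 1 = 5 * 2 from rfl, pow_mul, hy5, one_pow, mul_one]
  have key : ∀ g : ↥(centralizer ({X1 * Φ f} : Set G)), ∃ a : A12, Φ a = (g : G) ∧
      (a : Equiv.Perm (Fin 12)) ∈ centralizer ({x1 * (f : Equiv.Perm (Fin 12))} : Set (Equiv.Perm (Fin 12))) := by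
    rintro ⟨g, hg⟩
    have hg1 : g * (X1 * Φ f) = X1 * Φ f * g := mem_centralizer_singleton_iff.1 hg
    have hg2 : g * X1 = X1 * g := by
      have h := ((show Commute g (X1 * Φ f) from hg1).pow_right 10).eq
      rwa [h10] at h
    obtain ⟨a, ha⟩ := exists_perm hg2
    refine ⟨a, ha, mem_centralizer_singleton_iff.2 ?_⟩
    have h2 : a * (⟨x1, x1_mem⟩ * f) = (⟨x1, x1_mem⟩ * f) * a := by
      apply comm_of_Φ
      rw [map_mul, ha]
      exact hg1
    exact congrArg Subtype.val h2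
  choose F hF hF' using key
  refine Nat.card_le_card_of_injective (fun g => (⟨(F g : Equiv.Perm (Fin 12)), hF' g⟩ :
    ↥(centralizer ({x1 * (f : Equiv.Perm (Fin 12))} : Set (Equiv.Perm (Fin 12)))))) ?_
  intro g g' h
  apply Subtype.ext
  rw [← hF g, ← hF g']
  have h1 : (F g : Equiv.Perm (Fin 12)) = F g' := congrArg
    (fun z : ↥(centralizer ({x1 * (f : Equiv.Perm (Fin 12))} : Set (Equiv.Perm (Fin 12)))) => (z : Equiv.Perm (Fin 12))) h
  exact congrArg Φ (Subtype.ext h1)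

/-! ### `C(X3)` -/

theorem dd_coe : (dd : G) = X1 := rfl

/-- an element of order 5 normalising `⟨X3⟩ dd` commutes with `dd` -/
theorem comm_dd {y : MM} (hy : y ^ 5 = 1) {n : ℤ} (h : y * dd * y⁻¹ = xx ^ n * dd) : y * dd = dd * y := by
  have hxy : ∀ (m : ℤ), y * xx ^ m * y⁻¹ = xx ^ m := by
    intro m
    have h1 : Commute y xx := xx_comm y
    rw [(h1.zpow_right m).eq, mul_inv_cancel_right]
  have step : ∀ k : ℕ, y ^ k * dd * (y ^ k)⁻¹ = xx ^ (n * k) * dd := by
    intro k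
    induction k with
    | zero => simp
    | succ k ih =>
      have e : y ^ (k + 1) * dd * (y ^ (k + 1))⁻¹ = y * (y ^ k * dd * (y ^ k)⁻¹) * y⁻¹ := by
        rw [pow_succ']
        group
      rw [e, ih]
      have e2 : y * (xx ^ (n * (k : ℤ)) * dd) * y⁻¹ = (y * xx ^ (n * (k : ℤ)) * y⁻¹) * (y * dd * y⁻¹) := by group
      rw [e2, hxy, h, ← mul_assoc, ← zpow_add]
      congr 2
      push_cast
      ring
  have h5 := step 5
  rw [hy, inv_one, mul_one, one_mul] at h5
  have h6 : xx ^ (n * (5 : ℕ)) = 1 := by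
    have h7 : xx ^ (n * ((5 : ℕ) : ℤ)) * dd = 1 * dd := by rw [one_mul]; exact h5.symm
    exact mul_right_cancel h7
  have h7 := orderOf_dvd_iff_zpow_eq_one.2 h6
  rw [order_xx] at h7
  have h8 : (3 : ℤ) ∣ n := by
    push_cast at h7
    omega
  obtain ⟨m, rfl⟩ := h8
  have h9 : xx ^ (3 * m) = 1 := by
    apply orderOf_dvd_iff_zpow_eq_one.1
    rw [order_xx]
    exact ⟨m, by push_cast; ring⟩
  rw [h9, one_mul] at h
  exact mul_inv_eq_iff_eq_mul.1 h

/-- no element of order 5 commutes with `dd` -/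
theorem no_five_dd {y : MM} (hy : orderOf y = 5) {n : ℤ} (h : y * dd * y⁻¹ = xx ^ n * dd) : False := by
  have h1 := comm_dd (by rw [← hy, pow_orderOf_eq_one]) h
  refine no_five (y := (y : G)) (by rw [Subgroup.orderOf_coe, hy]) (congrArg Subtype.val h1) ?_
  exact congrArg Subtype.val (xx_comm y)

/-- **`5` does not divide `|O(C(X3))|`** -/
theorem not_five_OO : ¬ 5 ∣ Nat.card OO := by
  intro h
  obtain ⟨y, hy⟩ := exists_prime_orderOf_dvd_card' (G := ↥OO) 5 h
  obtain ⟨n, hn⟩ := comm_mod y.2 dd_mem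
  exact no_five_dd (by rw [Subgroup.orderOf_coe, hy]) hn

/-- **`|O(C(X3)) / ⟨X3⟩|` divides 81** -/
theorem card_Ob : Nat.card Ob ∣ 81 := by
  have h0 : Nat.card Ob ∣ Nat.card OO := OO.card_map_dvd q
  have h1 : Nat.card MM ∣ 273030912000000 := card_G ▸ Subgroup.card_subgroup_dvd_card MM
  have hd : ∀ r : ℕ, r ∣ Nat.card Ob → r ∣ Nat.card MM := fun r hr => by
    rw [card_MM]
    exact hr.mul_right _
  rw [card_MM] at h1
  have h2 : Nat.card Ob ∣ 2 ^ 11 * (5 ^ 5 * (7 * (11 * (19 * 81)))) := by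
    apply Nat.dvd_of_mul_dvd_mul_right (by norm_num : 0 < 360)
    exact h1.trans (dvd_of_eq (by norm_num))
  have e2 : ¬ 2 ∣ Nat.card Ob := fun h => (Nat.not_even_iff_odd.2 odd_OO) (even_iff_two_dvd.2 (h.trans h0))
  have e5 : ¬ 5 ∣ Nat.card Ob := fun h => not_five_OO (h.trans h0)
  have e7 : ¬ 7 ∣ Nat.card Ob := fun h => H555.Hall.HNThree.not_dvd_X3 (t := 7) (by norm_num) (by norm_num) (by norm_num)
    (by norm_num) (hd 7 h)
  have e11 : ¬ 11 ∣ Nat.card Ob := fun h => H555.Hall.HNThree.not_dvd_X3 (t := 11) (by norm_num) (by norm_num)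
    (by norm_num) (by norm_num) (hd 11 h)
  have e19 : ¬ 19 ∣ Nat.card Ob := fun h => H555.Hall.HNThree.not_dvd_X3 (t := 19) (by norm_num) (by norm_num)
    (by norm_num) (by norm_num) (hd 19 h)
  have c2 := (((Nat.Prime.coprime_iff_not_dvd Nat.prime_two).2 e2).pow_left 11).symm.dvd_of_dvd_mul_left h2
  have c5 := (((Nat.Prime.coprime_iff_not_dvd Nat.prime_five).2 e5).pow_left 5).symm.dvd_of_dvd_mul_left c2
  have c7 := ((Nat.Prime.coprime_iff_not_dvd (by norm_num)).2 e7).symm.dvd_of_dvd_mul_left c5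
  have c11 := ((Nat.Prime.coprime_iff_not_dvd (by norm_num)).2 e11).symm.dvd_of_dvd_mul_left c7
  exact ((Nat.Prime.coprime_iff_not_dvd (by norm_num)).2 e19).symm.dvd_of_dvd_mul_left c11

/-- the kernel of `C(X3) → A5` -/
theorem card_ker : Nat.card ff.ker ∣ 486 := by
  have h := ff.ker.card_mul_index
  rw [Subgroup.index_ker, MonoidHom.range_eq_top.2 ff_surj, card_top, card_A5, card_MM] at h
  have h1 : Nat.card ff.ker = Nat.card Ob * 6 := by omega
  rw [h1]
  exact (Nat.mul_dvd_mul_right card_Ob 6).trans (dvd_of_eq (by norm_num))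

theorem ff_ne {y : MM} (hy : orderOf y = 5) : ff y ≠ 1 := by
  intro h
  have h1 := orderOf_dvd_natCard (⟨y, MonoidHom.mem_ker.2 h⟩ : ff.ker)
  rw [Subgroup.orderOf_mk, hy] at h1
  have h2 := h1.trans card_ker
  norm_num at h2

theorem A5_cent : ∀ a : A5, a ^ 5 = 1 → a ≠ 1 → (Finset.univ.filter fun b : A5 => b * a = a * b).card ≤ 5 := by
  decide +kernel

theorem A5_three : ∀ a b : A5, a ^ 5 = 1 → a ≠ 1 → b ^ 3 = 1 → a * b = b * a → b = 1 := by
  decide +kernel

/-- **`|C(X3) ∩ C(y)| ≤ 2430`** -/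
theorem card_X3y {y : MM} (hy : orderOf y = 5) : Nat.card (centralizer ({y} : Set MM)) ≤ 2430 := by
  have hy5 : y ^ 5 = 1 := by rw [← hy, pow_orderOf_eq_one]
  let g : ↥(centralizer ({y} : Set MM)) →* A5 := ff.comp (centralizer ({y} : Set MM)).subtype
  have h1 := g.ker.card_mul_index
  rw [Subgroup.index_ker] at h1
  have h2 : Nat.card g.ker ≤ 486 := by
    refine le_trans ?_ (Nat.le_of_dvd (by norm_num) card_ker)
    refine Nat.card_le_card_of_injective (fun k : g.ker => (⟨((k : ↥(centralizer ({y} : Set MM))) : MM), k.2⟩ : ff.ker)) ?_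
    intro k k' h
    exact Subtype.ext (Subtype.ext (congrArg (fun z : ff.ker => (z : MM)) h))
  have h3 : Nat.card g.range ≤ 5 := by
    have h4 := A5_cent (ff y) (by rw [← map_pow, hy5, map_one]) (ff_ne hy)
    refine le_trans ?_ h4
    rw [← Fintype.card_coe, ← Nat.card_eq_fintype_card]
    refine Nat.card_le_card_of_injective (fun r : g.range => (⟨(r : A5), ?_⟩ :
      ↥(Finset.univ.filter fun b : A5 => b * ff y = ff y * b))) ?_
    · obtain ⟨k, hk⟩ := r.2
      rw [Finset.mem_filter]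
      refine ⟨Finset.mem_univ _, ?_⟩
      rw [← hk]
      change ff (k : MM) * ff y = ff y * ff (k : MM)
      rw [← map_mul, mem_centralizer_singleton_iff.1 k.2, map_mul]
    · intro r r' h
      exact Subtype.ext (congrArg
        (fun z : ↥(Finset.univ.filter fun b : A5 => b * ff y = ff y * b) => (z : A5)) h)
  rw [← h1]
  calc Nat.card g.ker * Nat.card g.range ≤ 486 * 5 := Nat.mul_le_mul h2 h3
    _ = 2430 := by norm_num

/-- **the fixed points of an element of order 5 on `O(C(X3))`** -/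
theorem mem_of_comm {y u : MM} (hy : orderOf y = 5) (hu : u ∈ OO) (hc : y * u = u * y) : u ∈ zpowers xx := by
  by_contra hn
  have hq : q u ≠ 1 := fun h => hn ((QuotientGroup.eq_one_iff _).1 h)
  have h1 : ∀ v ∈ Ob, q y * v = v * q y := by
    refine five_comm card_Ob (f := q y) (v := q u) (by rw [← map_pow, ← hy, pow_orderOf_eq_one, map_one])
      (fun v hv => Ob_normal.conj_mem v hv _) ⟨u, hu, rfl⟩ hq (by rw [← map_mul, hc, map_mul])
  have h2 : q (dd * y) = q (y * dd) := by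
    rw [map_mul, map_mul]
    exact (h1 (q dd) ⟨dd, dd_mem, rfl⟩).symm
  obtain ⟨n, hn'⟩ := mem_zpowers_iff.1 (QuotientGroup.eq.1 h2)
  -- `(dd y)⁻¹ (y dd) = xx ^ n`
  have h3 : Commute xx (dd * y) := (xx_comm (dd * y)).symm
  have h4 : y * dd = xx ^ n * (dd * y) := by
    rw [(h3.zpow_left n).eq, hn']
    group
  refine no_five_dd hy (n := n) ?_
  rw [h4]
  group

/-- **elements of order 3 and 5 of `C(X3)`** -/
theorem three_of {y w : MM} (hy : orderOf y = 5) (hw : orderOf w = 3) (hc : y * w = w * y) : w ∈ zpowers xx := by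
  have hy5 : y ^ 5 = 1 := by rw [← hy, pow_orderOf_eq_one]
  have hw3 : w ^ 3 = 1 := by rw [← hw, pow_orderOf_eq_one]
  have h1 : ff w = 1 := A5_three (ff y) (ff w) (by rw [← map_pow, hy5, map_one]) (ff_ne hy)
    (by rw [← map_pow, hw3, map_one]) (by rw [← map_mul, hc, map_mul])
  exact mem_of_comm hy (mem_OO_of_ff hw h1) hc

/-! ### the elements of order 3 of a centralizer -/

theorem all_of_one {C : Type*} [Group C] [Finite C] {p : ℕ} [hp : Fact p.Prime] {P : C → Prop}
    (hconj : ∀ g z : C, P z → P (g * z * g⁻¹))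
    (H : ∀ z w : C, orderOf z = p → P z → orderOf w = p → z * w = w * z → P w) {z0 x : C} (h0 : orderOf z0 = p)
    (hP : P z0) (hx : orderOf x = p) : P x := by
  have hz : ∀ {z : C}, orderOf z = p → IsPGroup p ↥(zpowers z) := fun {z} h =>
    IsPGroup.of_card (n := 1) (by rw [Nat.card_zpowers, h, pow_one])
  obtain ⟨T, hT⟩ := (hz h0).exists_le_sylow
  obtain ⟨S, hS⟩ := (hz hx).exists_le_sylow
  obtain ⟨g, hg⟩ := MulAction.exists_smul_eq C S T
  have hx' : g * x * g⁻¹ ∈ (T : Subgroup C) := by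
    rw [← hg, Sylow.coe_subgroup_smul]
    exact ⟨x, hS (mem_zpowers x), rfl⟩
  have h0' : z0 ∈ (T : Subgroup C) := hT (mem_zpowers z0)
  have hnt : Nontrivial ↥(T : Subgroup C) := by
    refine ⟨⟨z0, h0'⟩, 1, fun h => ?_⟩
    have h1 : z0 = 1 := congrArg Subtype.val h
    rw [h1, orderOf_one] at h0
    exact hp.out.one_lt.ne h0
  have hcn : Nontrivial ↥(center ↥(T : Subgroup C)) := T.2.center_nontrivial
  have hcd : p ∣ Nat.card ↥(center ↥(T : Subgroup C)) := by
    obtain ⟨n, hn⟩ := IsPGroup.iff_card.1 (T.2.to_subgroup (center ↥(T : Subgroup C)))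
    rw [hn]
    rcases n with _ | n
    · exfalso
      rw [pow_zero] at hn
      exact absurd hn (Finite.one_lt_card_iff_nontrivial.2 hcn).ne'
    · exact dvd_pow_self p (Nat.succ_ne_zero n)
  obtain ⟨z, hzo⟩ := exists_prime_orderOf_dvd_card' p hcd
  have hzo' : orderOf ((z : ↥(T : Subgroup C)) : C) = p := by
    rw [Subgroup.orderOf_coe, Subgroup.orderOf_coe, hzo]
  have hzc : ∀ u ∈ (T : Subgroup C), u * ((z : ↥(T : Subgroup C)) : C) = ((z : ↥(T : Subgroup C)) : C) * u :=
    fun u hu => congrArg Subtype.val (mem_center_iff.1 z.2 ⟨u, hu⟩)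
  have h1 : P ((z : ↥(T : Subgroup C)) : C) := H z0 _ h0 hP hzo' (hzc z0 h0')
  have h2 : P (g * x * g⁻¹) := by
    refine H _ _ hzo' h1 ?_ (hzc _ hx').symm
    rw [← hx]
    exact MulEquiv.orderOf_eq (MulAut.conj g) x
  have h3 := hconj g⁻¹ _ h2
  have e : g⁻¹ * (g * x * g⁻¹) * g⁻¹⁻¹ = x := by group
  rwa [e] at h3

/-! ### the elements of order 5 -/

/-- commutes with an element of order 3 commuting with an involution -/
def Has (y : G) : Prop := ∃ z t : G, orderOf z = 3 ∧ orderOf t = 2 ∧ z * y = y * z ∧ z * t = t * z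

theorem conj_comm {a b : G} (g : G) (h : a * b = b * a) : g * a * g⁻¹ * (g * b * g⁻¹) = g * b * g⁻¹ * (g * a * g⁻¹) := by
  calc g * a * g⁻¹ * (g * b * g⁻¹) = g * (a * b) * g⁻¹ := by group
    _ = g * (b * a) * g⁻¹ := by rw [h]
    _ = _ := by group

theorem orderOf_conj (g a : G) : orderOf (g * a * g⁻¹) = orderOf a := MulEquiv.orderOf_eq (MulAut.conj g) a

theorem Has.conj {y : G} (h : Has y) (g : G) : Has (g * y * g⁻¹) := by
  obtain ⟨z, t, hz, ht, h1, h2⟩ := h
  exact ⟨g * z * g⁻¹, g * t * g⁻¹, by rw [orderOf_conj, hz], by rw [orderOf_conj, ht], conj_comm g h1, conj_comm g h2⟩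

theorem Has.pow {y : G} (h : Has y) (i : ℕ) : Has (y ^ i) := by
  obtain ⟨z, t, hz, ht, h1, h2⟩ := h
  exact ⟨z, t, hz, ht, ((show Commute z y from h1).pow_right i).eq, h2⟩

theorem Has.of_rep {y r : G} (h : H536.T5.RepOf y r) (H : Has y) : Has r := by
  obtain ⟨g, i, rfl⟩ := h
  exact (H.pow i).conj g

theorem Has.rep {y r : G} (hy : orderOf y = 5) (hr : r ≠ 1) (h : H536.T5.RepOf y r) (H : Has r) : Has y := by
  obtain ⟨g, i, rfl⟩ := h
  have hy5 : y ^ 5 = 1 := by rw [← hy, pow_orderOf_eq_one]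
  have hi : i % 5 ≠ 0 := by
    intro h
    apply hr
    rw [pow_eq_pow_mod i hy5, h, pow_zero, mul_one, mul_inv_cancel]
  obtain ⟨k, hk⟩ := H536.T5.Five.exists_inv5 hi
  have h1 := (H.conj g⁻¹).pow k
  have e : (g⁻¹ * (g * y ^ i * g⁻¹) * g⁻¹⁻¹) ^ k = y := by
    have e1 : g⁻¹ * (g * y ^ i * g⁻¹) * g⁻¹⁻¹ = y ^ i := by group
    rw [e1, ← pow_mul, pow_eq_pow_mod _ hy5, hk, pow_one]
  rwa [e] at h1

theorem not_of_rep {x y r : G} (hx : orderOf x = 3) (hc : x * y = y * x) (h : H536.T5.RepOf y r)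
    (hr : ¬ 3 ∣ Nat.card ↥(centralizer ({r} : Set G))) : False := by
  obtain ⟨g, i, rfl⟩ := h
  apply hr
  have h1 : g * x * g⁻¹ ∈ centralizer ({g * y ^ i * g⁻¹} : Set G) :=
    mem_centralizer_singleton_iff.2 (conj_comm g ((show Commute x y from hc).pow_right i).eq)
  have h2 := orderOf_dvd_natCard (⟨_, h1⟩ : ↥(centralizer ({g * y ^ i * g⁻¹} : Set G)))
  rwa [Subgroup.orderOf_mk, orderOf_conj, hx] at h2

section Reps

open Cfsg.Agent.HN.Pres Cfsg.Agent.HN.H0Basic
open Cfsg.Agent.HN.P1408 hiding ψ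
open Cfsg.Agent.HN.NormalH (ψ)
open Cfsg.Agent.HN.XWords (W0 W0_sq V V_hw)
open Cfsg.Agent.CpAutHNFive Cfsg.Agent.CpAutHNFive.HTab Cfsg.Agent.CpAutHNFive.HFacts
open Cfsg.Agent.H536.T5

theorem not_w1 : ¬ 3 ∣ Nat.card ↥(centralizer ({V zw} : Set G)) := by
  rw [zw_eq]
  exact H555.Hall.HNFive.not_dvd_w1 Nat.prime_three (by norm_num) (by norm_num)

theorem not_w3 : ¬ 3 ∣ Nat.card ↥(centralizer ({V w3w} : Set G)) := by
  rw [w3w_eq]
  exact H555.Hall.HNFive.not_dvd_w3 Nat.prime_three (by norm_num) (by norm_num)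

theorem has_w2 : Has (V w2w) := by
  rw [w2w_eq]
  refine ⟨ψ (hw wt), ψ τ, ?_, ?_, ?_, ?_⟩
  · rw [orderOf_injective ψ Cfsg.Agent.KFacts.HN.emb.inj, order_t]
  · rw [orderOf_injective ψ Cfsg.Agent.KFacts.HN.emb.inj, order_τ]
  · rw [← map_mul, t_comm, map_mul]
  · rw [← map_mul, τ_comm, map_mul]

theorem has_aa : Has aa := by
  obtain ⟨f, hf5, hfx, hf⟩ := Cfsg.Agent.H755.CC.HNThree.exists_lift order_X0 ρ_X0
    ⟨Cfsg.Agent.H755.CC.HNThree.qa, Cfsg.Agent.H755.CC.HNThree.qa_mem⟩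
    (Subtype.ext (by change Cfsg.Agent.H755.CC.HNThree.qa ^ 5 = 1; decide +kernel))
  have hf1 : f ≠ 1 := by
    intro h
    rw [h, map_one] at hf
    have h1 := φB_inj (hf.symm.trans (map_one φB).symm)
    have h2 : Cfsg.Agent.H755.CC.HNThree.qa = 1 := congrArg Subtype.val h1
    exact absurd h2 (by decide +kernel)
  have hfo : orderOf f = 5 := orderOf_eq_prime hf5 hf1
  have hX : orderOf (X0 : G) = 3 := by rw [Subgroup.orderOf_coe, order_X0]
  have hc : (X0 : G) * (f : G) = (f : G) * (X0 : G) := (congrArg Subtype.val hfx).symm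
  have hH : Has (f : G) := ⟨X0, W0, hX, Cfsg.Agent.H755.CC.HNB.orderOf_W0, hc, mem_PP.1 X0.2⟩
  rcases rep_PP hfo with h | h | h
  · exact (not_of_rep hX hc h not_w1).elim
  · exact (not_of_rep hX hc h not_w3).elim
  · exact hH.of_rep h

/-- **an element of order 5 commuting with an element of order 3** -/
theorem has_of {x y : G} (hx : orderOf x = 3) (hy : orderOf y = 5) (hc : x * y = y * x) : Has y := by
  obtain ⟨r, hr, hrep⟩ := exists_rep hy
  rcases hr with rfl | rfl | rfl | rfl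
  · exact (not_of_rep hx hc hrep not_w1).elim
  · exact has_w2.rep hy ne_w2 hrep
  · exact (not_of_rep hx hc hrep not_w3).elim
  · exact has_aa.rep hy ne_aa hrep

end Reps

/-! ### the types -/

theorem eq_of_mem {w : MM} (hw : orderOf w = 3) (h : w ∈ zpowers xx) : (w : G) = X3 ∨ (w : G) = X3⁻¹ := by
  obtain ⟨n, hn, rfl⟩ := Cfsg.Agent.H991.SN.HN.mod_three h
  have h3 : xx ^ 3 = 1 := by rw [← order_xx, pow_orderOf_eq_one]
  interval_cases n
  · rw [pow_zero, orderOf_one] at hw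
    norm_num at hw
  · exact Or.inl (by rw [pow_one]; rfl)
  · right
    have h4 : xx ^ 2 = xx⁻¹ := by
      rw [eq_inv_iff_mul_eq_one, ← pow_succ]
      exact h3
    rw [h4]
    rfl

/-- **an element of order 3 commuting with an element of order 5 is conjugate to `X1` or to `X3`** -/
theorem types {x y : G} (hx : orderOf x = 3) (hy : orderOf y = 5) (hc : x * y = y * x) :
    (∃ c : G, c * x * c⁻¹ = X1) ∨ ∃ c : G, c * x * c⁻¹ = X3 := by
  obtain ⟨z, t, hz, ht, hzy, hzt⟩ := has_of hx hy hc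
  have hz1 : z ≠ 1 := by
    intro h
    rw [h, orderOf_one] at hz
    norm_num at hz
  obtain ⟨c, hc'⟩ := Cfsg.Agent.H569.HNThree.conj_of_comm (y := z) ⟨1, by rw [pow_one, ← hz, pow_orderOf_eq_one]⟩ ht hzt hz1
  let C := ↥(centralizer ({y} : Set G))
  have hzC : z ∈ centralizer ({y} : Set G) := mem_centralizer_singleton_iff.2 hzy
  have hxC : x ∈ centralizer ({y} : Set G) := mem_centralizer_singleton_iff.2 hc
  have cc : ∀ (X : G) (g z : C), (∃ c : G, c * (z : G) * c⁻¹ = X) → ∃ c : G, c * ((g * z * g⁻¹ : C) : G) * c⁻¹ = X := by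
    rintro X g z ⟨c, hc⟩
    refine ⟨c * (g : G)⁻¹, ?_⟩
    rw [← hc]
    change c * (g : G)⁻¹ * ((g : G) * (z : G) * (g : G)⁻¹) * (c * (g : G)⁻¹)⁻¹ = _
    group
  rcases hc' with h | h
  · left
    refine all_of_one (C := C) (p := 3) (P := fun z : C => ∃ c : G, c * (z : G) * c⁻¹ = X1) (cc X1) ?_
      (z0 := ⟨z, hzC⟩) (x := ⟨x, hxC⟩) (by rw [Subgroup.orderOf_mk, hz]) ⟨c, h⟩ (by rw [Subgroup.orderOf_mk, hx])
    rintro z w hz ⟨c, hcz⟩ hw hzw
    have hzw' : (z : G) * (w : G) = (w : G) * (z : G) := congrArg Subtype.val hzw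
    have hwy : (w : G) * y = y * (w : G) := mem_centralizer_singleton_iff.1 w.2
    have hzy : (z : G) * y = y * (z : G) := mem_centralizer_singleton_iff.1 z.2
    obtain ⟨d, hd⟩ := conj_X1 (w := c * (w : G) * c⁻¹) (y := c * y * c⁻¹) (by rw [orderOf_conj, Subgroup.orderOf_coe, hw])
      (by rw [orderOf_conj, hy]) (by rw [← hcz]; exact conj_comm c hzw'.symm) (by rw [← hcz]; exact conj_comm c hzy.symm)
      (conj_comm c hwy)
    exact ⟨d * c, by rw [← hd]; group⟩
  · right
    refine all_of_one (C := C) (p := 3) (P := fun z : C => ∃ c : G, c * (z : G) * c⁻¹ = X3) (cc X3) ?_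
      (z0 := ⟨z, hzC⟩) (x := ⟨x, hxC⟩) (by rw [Subgroup.orderOf_mk, hz]) ⟨c, h⟩ (by rw [Subgroup.orderOf_mk, hx])
    rintro z w hz ⟨c, hcz⟩ hw hzw
    have hzw' : (z : G) * (w : G) = (w : G) * (z : G) := congrArg Subtype.val hzw
    have hwy : (w : G) * y = y * (w : G) := mem_centralizer_singleton_iff.1 w.2
    have hzy : (z : G) * y = y * (z : G) := mem_centralizer_singleton_iff.1 z.2
    have m1 : c * (w : G) * c⁻¹ ∈ MM := mem_centralizer_singleton_iff.2 (by rw [← hcz]; exact conj_comm c hzw'.symm)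
    have m2 : c * y * c⁻¹ ∈ MM := mem_centralizer_singleton_iff.2 (by rw [← hcz]; exact conj_comm c hzy.symm)
    have h1 : (⟨c * (w : G) * c⁻¹, m1⟩ : MM) ∈ zpowers xx :=
      three_of (y := ⟨c * y * c⁻¹, m2⟩) (by rw [Subgroup.orderOf_mk, orderOf_conj, hy])
        (by rw [Subgroup.orderOf_mk, orderOf_conj, Subgroup.orderOf_coe, hw]) (Subtype.ext (conj_comm c hwy).symm)
    rcases eq_of_mem (by rw [Subgroup.orderOf_mk, orderOf_conj, Subgroup.orderOf_coe, hw]) h1 with h2 | h2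
    · exact ⟨c, h2⟩
    · refine ⟨V3 * c, ?_⟩
      have h3 : c * (w : G) * c⁻¹ = X3⁻¹ := h2
      have h4 : V3 * X3⁻¹ * V3⁻¹ = X3 := by
        have h5 : V3 * X3⁻¹ * V3⁻¹ = (V3 * X3 * V3⁻¹)⁻¹ := by group
        rw [h5, inv_VX, inv_inv]
      calc V3 * c * (w : G) * (V3 * c)⁻¹ = V3 * (c * (w : G) * c⁻¹) * V3⁻¹ := by group
        _ = X3 := by rw [h3, h4]

/-! ### the bound -/

/-- **`|C(x y)| ≤ 2430`** -/
theorem card_mul_le {x y : G} (hx : orderOf x = 3) (hy : orderOf y = 5) (hc : x * y = y * x) :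
    Nat.card (centralizer ({x * y} : Set G)) ≤ 2430 := by
  have hmul : ∀ c : G, c * (x * y) * c⁻¹ = (c * x * c⁻¹) * (c * y * c⁻¹) := fun c => by group
  rcases types hx hy hc with ⟨c, h⟩ | ⟨c, h⟩
  · rw [← H502.TO.card_cent_conj c, hmul, h]
    refine (card_X1y (by rw [orderOf_conj, hy]) ?_).trans (by norm_num)
    rw [← h]
    exact conj_comm c hc.symm
  · rw [← H502.TO.card_cent_conj c, hmul, h]
    have m2 : c * y * c⁻¹ ∈ MM := mem_centralizer_singleton_iff.2 (by rw [← h]; exact conj_comm c hc.symm)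
    have hyo : orderOf (c * y * c⁻¹) = 5 := by rw [orderOf_conj, hy]
    have h5 : (c * y * c⁻¹) ^ 5 = 1 := by rw [← hyo, pow_orderOf_eq_one]
    have h3 : X3 ^ 3 = 1 := by rw [← order_X3, pow_orderOf_eq_one]
    have hcom : Commute X3 (c * y * c⁻¹) := (mem_centralizer_singleton_iff.1 m2).symm
    generalize c * y * c⁻¹ = v at m2 hyo h5 hcom
    have e10 : (X3 * v) ^ 10 = X3 := by
      rw [hcom.mul_pow, show 10 = 3 * 3 + 1 from rfl, pow_succ, pow_mul, h3, one_pow, one_mul,
        show 3 * 3 + 1 = 5 * 2 from rfl, pow_mul, h5, one_pow, mul_one]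
    have e6 : (X3 * v) ^ 6 = v := by
      rw [hcom.mul_pow, show X3 ^ 6 = (X3 ^ 3) ^ 2 by rw [← pow_mul], h3, one_pow, one_mul, show 6 = 5 + 1 from rfl,
        pow_succ, h5, one_mul]
    have key : ∀ g ∈ centralizer ({X3 * v} : Set G), g * X3 = X3 * g ∧ g * v = v * g := by
      intro g hg
      have hg1 : Commute g (X3 * v) := mem_centralizer_singleton_iff.1 hg
      refine ⟨?_, ?_⟩
      · have h := (hg1.pow_right 10).eq
        rwa [e10] at h
      · have h := (hg1.pow_right 6).eq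
        rwa [e6] at h
    refine le_trans ?_ (card_X3y (y := ⟨v, m2⟩) (by rw [Subgroup.orderOf_mk, hyo]))
    refine Nat.card_le_card_of_injective (fun g : ↥(centralizer ({X3 * v} : Set G)) =>
      (⟨⟨(g : G), mem_centralizer_singleton_iff.2 (key g g.2).1⟩,
        mem_centralizer_singleton_iff.2 (Subtype.ext (key g g.2).2)⟩ : ↥(centralizer ({(⟨v, m2⟩ : MM)} : Set MM)))) ?_
    intro g g' h
    exact Subtype.ext (congrArg (fun z : ↥(centralizer ({(⟨v, m2⟩ : MM)} : Set MM)) => ((z : MM) : G)) h)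

/-- **elements of order divisible by 15** -/
theorem card_cent_le {g : Cfsg.Spor.HN} (h : 15 ∣ orderOf g) :
    Nat.card (Subgroup.centralizer ({g} : Set Cfsg.Spor.HN)) ≤ 2430 := by
  have hpos : 0 < orderOf g := orderOf_pos g
  obtain ⟨k, hk⟩ := h
  have hk0 : k ≠ 0 := by
    rintro rfl
    omega
  have hs : orderOf (g ^ k) = 15 := by
    rw [orderOf_pow_of_dvd hk0 (Dvd.intro_left _ hk.symm), hk]
    exact Nat.mul_div_cancel _ (Nat.pos_of_ne_zero hk0)
  have hx : orderOf ((g ^ k) ^ 10) = 3 := by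
    have : Nat.gcd 15 10 = 5 := by norm_num
    rw [orderOf_pow, hs, this]
  have hy : orderOf ((g ^ k) ^ 6) = 5 := by
    have : Nat.gcd 15 6 = 3 := by norm_num
    rw [orderOf_pow, hs, this]
  have hc : (g ^ k) ^ 10 * (g ^ k) ^ 6 = (g ^ k) ^ 6 * (g ^ k) ^ 10 := by rw [← pow_add, ← pow_add]
  have hm : (g ^ k) ^ 10 * (g ^ k) ^ 6 = g ^ k := by
    rw [← pow_add, show 10 + 6 = 15 + 1 from rfl, pow_succ, ← hs, pow_orderOf_eq_one, one_mul]
  have h1 := card_mul_le hx hy hc
  rw [hm] at h1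
  refine le_trans ?_ h1
  refine Nat.card_le_card_of_injective (fun u : ↥(centralizer ({g} : Set G)) => (⟨(u : G),
    mem_centralizer_singleton_iff.2 ((show Commute (u : G) g from mem_centralizer_singleton_iff.1 u.2).pow_right k).eq⟩ :
      ↥(centralizer ({g ^ k} : Set G)))) ?_
  intro u u' hu
  exact Subtype.ext (congrArg (fun z : ↥(centralizer ({g ^ k} : Set G)) => (z : G)) hu)

/-- the form needed in the row -/
theorem card_cent_le' {g : Cfsg.Spor.HN} (h : 15 ∣ orderOf g) :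
    Nat.card (Subgroup.centralizer ({g} : Set Cfsg.Spor.HN)) ≤ 10249 := (card_cent_le h).trans (by norm_num)

end Cfsg.Agent.H187.Ore.HN15
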