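import Cfsg.Agent.H701.Wf.HN
import Cfsg.Agent.H845.HNNineteen
import Cfsg.Agent.H710.Spor.HNMix
import Cfsg.Agent.HN.Distinct
import Cfsg.Agent.H502.TO.Gen

/-!
# Ore, row HN: `C(X1)` is contained in `A12` (helper187)

* `card_eleven` : the centralizer of an element of order 11 has order 22 (suborbits of `2.HS.2`, after helper704);
* `cent_X7_le` : `C(X7) ≤ A12`;
* `cent_X1_le` : `C(X1) ≤ A12`; the index of `C(X1) ∩ A12` in `C(X1)` divides `5 ^ 5` and is `1` modulo `7`.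
-/

set_option autoImplicit false
set_option maxRecDepth 100000

namespace Cfsg.Agent.H187.Ore.HNX1

open Subgroup

/-! ### elements of order 11 -/

section Eleven

open Cfsg Cfsg.Agent.H713 Cfsg.Agent.H665.NoPQ Cfsg.Agent.H713.Count
open Cfsg.Agent.HN.Pres Cfsg.Agent.HN.H0Basic Cfsg.Agent.H710.Spor.HNMix
open Cfsg.Agent.HN.NormalH (H)
open Cfsg.Agent.HN.DCover (w9)
open Cfsg.Agent.HN.Index (balance kk)
open Cfsg.Agent.HN.Count (sz pnt)

/-- The lengths of the suborbits are divisible by 11. -/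
theorem dvd_sz (i : Fin 9) (hi : i ≠ 0) : 11 ∣ sz H (w9 i) := by
  have hdis := Cfsg.Agent.HN.Distinct.hdis
  have s0 : sz H (w9 0) = 1 := by rw [Cfsg.Agent.HN.Index.w9_zero]; exact Cfsg.Agent.HN.Count.sz_one H
  have s1 : sz H (w9 0) * 1408 = sz H (w9 1) * 1 := balance hdis 0 1
  have s2 : sz H (w9 1) * 50 = sz H (w9 2) * 32 := balance hdis 1 2
  have s3 : sz H (w9 1) * 450 = sz H (w9 3) * 18 := balance hdis 1 3
  have s4 : sz H (w9 1) * 350 = sz H (w9 4) * 4 := balance hdis 1 4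
  have s5 : sz H (w9 1) * 504 = sz H (w9 5) * 2 := balance hdis 1 5
  have s6 : sz H (w9 2) * 672 = sz H (w9 6) * 2 := balance hdis 2 6
  have s7 : sz H (w9 6) * 10 = sz H (w9 7) * 1280 := balance hdis 6 7
  have s8 : sz H (w9 6) * 240 = sz H (w9 8) * 640 := balance hdis 6 8
  fin_cases i
  · exact absurd rfl hi
  · show 11 ∣ sz H (w9 1)
    omega
  · show 11 ∣ sz H (w9 2)
    omega
  · show 11 ∣ sz H (w9 3)
    omega
  · show 11 ∣ sz H (w9 4)
    omega
  · show 11 ∣ sz H (w9 5)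
    omega
  · show 11 ∣ sz H (w9 6)
    omega
  · show 11 ∣ sz H (w9 7)
    omega
  · show 11 ∣ sz H (w9 8)
    omega

/-- An element of order 11 of `H` is in no other conjugate of `H`. -/
theorem mem_H_of_conj {x g : Cfsg.Spor.HN} (hx : orderOf x = 11) (hxH : x ∈ H) (hg : g⁻¹ * x * g ∈ H) : g ∈ H := by
  have hfinG := Cfsg.Agent.H710.Spor.HN.finite_hn
  have hfin : Finite H := inferInstance
  obtain ⟨i, hi⟩ := Cfsg.Agent.HN.Index.covers g⁻¹
  have hor := (Cfsg.Agent.HN.Count.mem_orbit_iff' (H := H) g⁻¹ (w9 i)).2 hi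
  by_cases h0 : i = 0
  · subst h0
    rw [Cfsg.Agent.HN.Index.w9_zero, DoubleCoset.mem_doubleCoset] at hi
    obtain ⟨a, ha, b, hb, hab⟩ := hi
    have h1 : g⁻¹ ∈ H := by
      rw [hab, mul_one]
      exact H.mul_mem ha hb
    exact inv_mem_iff.1 h1
  · exfalso
    have hd := dvd_sz i h0
    set q : Cfsg.Spor.HN ⧸ H := pnt H g⁻¹ with hq
    have hqo : Nat.card (MulAction.orbit H q) = sz H (w9 i) := by
      rw [sz, MulAction.orbit_eq_iff.2 hor]
    have hst : Nat.card (MulAction.orbit H q) * Nat.card (MulAction.stabilizer H q) = Nat.card H := by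
      rw [Nat.card_congr (MulAction.orbitEquivQuotientStabilizer H q)]
      exact (Subgroup.card_eq_card_quotient_mul_card_subgroup _).symm
    have hxs : (⟨x, hxH⟩ : H) ∈ MulAction.stabilizer H q := by
      rw [MulAction.mem_stabilizer_iff]
      change ((x * (g⁻¹)⁻¹ : Cfsg.Spor.HN) : Cfsg.Spor.HN ⧸ H) = (((g⁻¹)⁻¹ : Cfsg.Spor.HN) : Cfsg.Spor.HN ⧸ H)
      rw [QuotientGroup.eq, inv_inv]
      have h1 : (x * g)⁻¹ * g = (g⁻¹ * x * g)⁻¹ := by group
      rw [h1]
      exact H.inv_mem hg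
    have h11 : 11 ∣ Nat.card (MulAction.stabilizer H q) := by
      have h2 : orderOf (⟨⟨x, hxH⟩, hxs⟩ : MulAction.stabilizer H q) = 11 := by
        rw [Subgroup.orderOf_mk, Subgroup.orderOf_mk, hx]
      rw [← h2]
      exact orderOf_dvd_natCard _
    rw [hqo, Cfsg.Agent.HN.Index.card_H] at hst
    obtain ⟨a, ha⟩ := hd
    obtain ⟨b, hb⟩ := h11
    rw [ha, hb] at hst
    have h3 : 121 ∣ 177408000 := ⟨a * b, by rw [← hst]; ring⟩
    revert h3
    norm_num

theorem mem_H_iff {x : Cfsg.Spor.HN} : x ∈ H ↔ ∃ u, ψ u = x := by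
  rw [← Cfsg.Agent.HN.NormalH.range_ψ]
  exact Iff.rfl

/-- The centralizer of the element of order 11. -/
theorem card_cent : Nat.card (centralizer ({ψ xx} : Set Cfsg.Spor.HN)) = 22 := by
  have hfinG := Cfsg.Agent.H710.Spor.HN.finite_hn
  refine le_antisymm ?_ ?_
  · have hf : ∀ g : centralizer ({ψ xx} : Set Cfsg.Spor.HN), ∃ i : Fin 11 × Bool,
        (g : Cfsg.Spor.HN) = ψ (xx ^ (i.1 : ℕ) * (if i.2 then τ else 1)) := by
      rintro ⟨g, hg⟩
      have hg1 : g * ψ xx = ψ xx * g := mem_centralizer_singleton_iff.1 hg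
      have hxH : ψ xx ∈ H := mem_H_iff.2 ⟨_, rfl⟩
      have h2 : g⁻¹ * ψ xx * g = ψ xx := by rw [mul_assoc, ← hg1, inv_mul_cancel_left]
      have h3 := mem_H_of_conj orderOf_ψx hxH (by rw [h2]; exact hxH)
      obtain ⟨u, rfl⟩ := mem_H_iff.1 h3
      have h4 : u * xx = xx * u := by
        apply ψ_inj
        rw [map_mul, map_mul]
        exact hg1
      obtain ⟨k, hk, h8 | h8⟩ := Cfsg.Agent.H710.Spor.HNCent.mem_of_comm h4
      · exact ⟨(⟨k, hk⟩, false), (congrArg ψ h8).trans (by simp)⟩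
      · exact ⟨(⟨k, hk⟩, true), (congrArg ψ h8).trans (by simp)⟩
    choose f hf using hf
    have hinj : Function.Injective f := fun a b hab => Subtype.ext (by rw [hf a, hf b, hab])
    have h := Nat.card_le_card_of_injective f hinj
    simpa using h
  · refine Nat.le_of_dvd Nat.card_pos ?_
    have ho : orderOf (ψ xx * ψ τ) = 2 * 11 :=
      Cfsg.Agent.H710.TwoP.orderOf_xt (p := 11) (by norm_num) orderOf_ψx orderOf_ψτ comm_xτ
    have hm : ψ xx * ψ τ ∈ centralizer ({ψ xx} : Set Cfsg.Spor.HN) := by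
      rw [mem_centralizer_singleton_iff, mul_assoc, comm_xτ.eq]
    rw [show 22 = 2 * 11 from rfl, ← ho, ← Subgroup.orderOf_mk _ hm]
    exact orderOf_dvd_natCard _

theorem exists_eleven : ∃ x : Cfsg.Spor.HN, orderOf x = 11 ∧ Nat.card (centralizer ({x} : Set Cfsg.Spor.HN)) = 22 :=
  ⟨ψ xx, orderOf_ψx, card_cent⟩

end Eleven

open Cfsg Cfsg.Agent
open Cfsg.Agent.CpAutHN
open Cfsg.Agent.CpAutHN.Alt hiding c7 c7_mem
open Cfsg.Agent.CpAutHN.Tr
open Cfsg.Agent.CpAutHN.Pairs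
open Cfsg.Agent.CpAutHN.Second (card_C_dvd card_range Ψ Ψ_coe)
open Cfsg.Agent.H569.HNThree (card_G finite_G)
open Cfsg.Agent.H701.Wf.HN (D12 card_D12 D12_le card_X1)
open Cfsg.Agent.H845.HNSeven (X7 order_X7 c7 c7_mem)

attribute [local instance] Cfsg.Agent.H569.HNThree.finite_G

theorem card_eleven {w : G} (hw : orderOf w = 11) : Nat.card (centralizer ({w} : Set G)) = 22 := by
  obtain ⟨x, hx, hc⟩ := exists_eleven
  rw [← hc]
  exact (H502.TO.card_cent_eq (by norm_num) (by rw [card_G]; norm_num) hw hx).symm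

theorem card_nineteen {w : G} (hw : orderOf w = 19) : Nat.card (centralizer ({w} : Set G)) = 19 := by
  obtain ⟨x, hx, hc⟩ := Cfsg.Agent.H845.HNNineteen.hn_nineteen
  rw [← hc]
  exact (H502.TO.card_cent_eq (by norm_num) (by rw [card_G]; norm_num) hw hx).symm

/-- `3` does not divide `|C(w)|`: `|w|` does not divide `|C(X1)|` -/
theorem not_dvd_of {r : ℕ} (hr : r.Prime) (h : ∀ w : G, orderOf w = r → ¬ 3 ∣ Nat.card (centralizer ({w} : Set G))) :
    ¬ r ∣ Nat.card (centralizer ({X1} : Set G)) := by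
  intro hd
  have : Fact r.Prime := ⟨hr⟩
  obtain ⟨w, hw⟩ := exists_prime_orderOf_dvd_card' (G := ↥(centralizer ({X1} : Set G))) r hd
  refine h (w : G) (by rw [Subgroup.orderOf_coe, hw]) ?_
  have h1 : X1 ∈ centralizer ({(w : G)} : Set G) :=
    mem_centralizer_singleton_iff.2 (mem_centralizer_singleton_iff.1 w.2).symm
  have h2 := orderOf_dvd_natCard (⟨X1, h1⟩ : centralizer ({(w : G)} : Set G))
  rwa [Subgroup.orderOf_mk, order_X1] at h2

/-! ### `C(X7)` -/

/-- **`C(X7) ≤ A12`** -/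
theorem cent_X7_le : centralizer ({X7} : Set G) ≤ Φ.range := by
  rw [← subgroupOf_eq_top]
  have h60 : Nat.card (alternatingGroup (Fin 5)) = 60 := by
    rw [nat_card_alternatingGroup, Nat.card_fin]
    decide
  have h1 : 60 ∣ Nat.card ↥((Φ.range).subgroupOf (centralizer ({X7} : Set G))) := by
    rw [← h60, Nat.card_congr (MonoidHom.ofInjective Cfsg.Agent.H845.HNSeven.Ψ_inj).toEquiv]
    refine card_dvd_of_le ?_
    rintro _ ⟨a, rfl⟩
    rw [mem_subgroupOf, Cfsg.Agent.H845.HNSeven.Ψ_coe]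
    exact ⟨_, rfl⟩
  have h2 : 7 ∣ Nat.card ↥((Φ.range).subgroupOf (centralizer ({X7} : Set G))) := by
    have hm : (⟨X7, mem_centralizer_singleton_iff.2 rfl⟩ : ↥(centralizer ({X7} : Set G))) ∈
        (Φ.range).subgroupOf (centralizer ({X7} : Set G)) := ⟨_, rfl⟩
    have h := orderOf_dvd_natCard (⟨_, hm⟩ : ↥((Φ.range).subgroupOf (centralizer ({X7} : Set G))))
    rwa [Subgroup.orderOf_mk, Subgroup.orderOf_mk, order_X7] at h
  have h3 : 60 * 7 ∣ Nat.card ↥((Φ.range).subgroupOf (centralizer ({X7} : Set G))) :=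
    Nat.Coprime.mul_dvd_of_dvd_of_dvd (by norm_num) h1 h2
  apply Subgroup.eq_top_of_card_eq
  refine Nat.dvd_antisymm (Subgroup.card_subgroup_dvd_card _) ?_
  rw [Cfsg.Agent.H845.HNSeven.card_cent]
  exact h3

/-! ### Sylow's congruence -/

theorem index_mod {C : Type*} [Group C] [Finite C] {p : ℕ} [Fact p.Prime] (A : Subgroup C) (P : Sylow p C)
    (hN : normalizer ((P : Subgroup C) : Set C) ≤ A) : A.index ≡ 1 [MOD p] := by
  have hP : (P : Subgroup C) ≤ A := le_normalizer.trans hN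
  have h1 := card_sylow_modEq_one p C
  rw [P.card_eq_index_normalizer] at h1
  have h2 := card_sylow_modEq_one p A
  rw [(P.subtype hP).card_eq_index_normalizer] at h2
  have h3 : normalizer (((P.subtype hP : Sylow p A) : Subgroup A) : Set A) =
      (normalizer ((P : Subgroup C) : Set C)).subgroupOf A := by
    rw [subgroupOf_normalizer_eq hP]
    rfl
  have h4 := relIndex_mul_index hN
  have h5 : (normalizer ((P : Subgroup C) : Set C)).relIndex A ≡ 1 [MOD p] := by
    have h6 : (normalizer (((P.subtype hP : Sylow p A) : Subgroup A) : Set A)).index ≡ 1 [MOD p] := h2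
    rw [h3] at h6
    exact h6
  have h7 := h5.mul_right A.index
  rw [h4, one_mul] at h7
  exact h7.symm.trans h1

theorem exists_sylow {C : Type*} [Group C] [Finite C] {p : ℕ} [Fact p.Prime] (h : ¬ p ^ 2 ∣ Nat.card C) {x : C}
    (hx : orderOf x = p) : ∃ P : Sylow p C, (P : Subgroup C) = zpowers x := by
  have hp : IsPGroup p ↥(zpowers x) := IsPGroup.of_card (n := 1) (by rw [Nat.card_zpowers, hx, pow_one])
  obtain ⟨P, hP⟩ := hp.exists_le_sylow
  refine ⟨P, (Subgroup.eq_of_le_of_card_ge hP ?_).symm⟩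
  obtain ⟨n, hn⟩ := IsPGroup.iff_card.1 P.2
  rw [hn, Nat.card_zpowers, hx]
  have h1 : n ≤ 1 := by
    by_contra h2
    apply h
    exact ((pow_dvd_pow p (by omega : 2 ≤ n)).trans (dvd_of_eq hn.symm)).trans (Subgroup.card_subgroup_dvd_card _)
  calc p ^ n ≤ p ^ 1 := Nat.pow_le_pow_right (Nat.Prime.pos Fact.out) h1
    _ = p := pow_one p

/-! ### `C(X1)` -/

/-- multiplication by `3` on the points modulo `7` -/
def mu : Equiv.Perm (Fin 12) := cy [1, 3, 2, 6, 4, 5] * cy [7, 8]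

theorem mu_pow (i : ℕ) (hi : i % 7 ≠ 0) : ∃ t : Equiv.Perm (Fin 12), t ∈ alternatingGroup (Fin 12) ∧
    t * x1 = x1 * t ∧ t * c7 * t⁻¹ = c7 ^ i := by
  have h7 : c7 ^ 7 = 1 := by decide +kernel
  have h1 : c7 ^ i = c7 ^ (i % 7) := by
    conv_lhs => rw [← Nat.div_add_mod i 7, pow_add, pow_mul, h7, one_pow, one_mul]
  have h2 : i % 7 < 7 := Nat.mod_lt _ (by norm_num)
  rw [h1]
  generalize i % 7 = j at hi h2
  have h3 : j = 1 ∨ j = 2 ∨ j = 3 ∨ j = 4 ∨ j = 5 ∨ j = 6 := by omega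
  rcases h3 with rfl | rfl | rfl | rfl | rfl | rfl
  · exact ⟨1, one_mem _, by rw [one_mul, mul_one], by decide +kernel⟩
  · exact ⟨mu ^ 2, by rw [Equiv.Perm.mem_alternatingGroup]; decide +kernel, by decide +kernel, by decide +kernel⟩
  · exact ⟨mu, by rw [Equiv.Perm.mem_alternatingGroup]; decide +kernel, by decide +kernel, by decide +kernel⟩
  · exact ⟨mu ^ 4, by rw [Equiv.Perm.mem_alternatingGroup]; decide +kernel, by decide +kernel, by decide +kernel⟩
  · exact ⟨mu ^ 5, by rw [Equiv.Perm.mem_alternatingGroup]; decide +kernel, by decide +kernel, by decide +kernel⟩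
  · exact ⟨mu ^ 3, by rw [Equiv.Perm.mem_alternatingGroup]; decide +kernel, by decide +kernel, by decide +kernel⟩

/-- `X7` in `C(X1)` -/
noncomputable def x7 : ↥(centralizer ({X1} : Set G)) :=
  ⟨X7, mem_centralizer_singleton_iff.2 (comm_of c7_mem x1_mem (by decide +kernel))⟩

theorem order_x7 : orderOf x7 = 7 := by
  rw [← Subgroup.orderOf_coe]
  exact order_X7

theorem norm_le : normalizer ((zpowers x7 : Subgroup ↥(centralizer ({X1} : Set G))) : Set ↥(centralizer ({X1} : Set G))) ≤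
    (Φ.range).subgroupOf (centralizer ({X1} : Set G)) := by
  intro n hn
  obtain ⟨i, hi⟩ := H502.TO.exists_pow hn
  have hi7 : i % 7 ≠ 0 := by
    intro h0
    have h1 : x7 ^ i = 1 := by
      apply orderOf_dvd_iff_pow_eq_one.1
      rw [order_x7]
      exact Nat.dvd_of_mod_eq_zero h0
    rw [h1, conj_eq_one_iff] at hi
    have h2 := order_x7
    rw [hi, orderOf_one] at h2
    norm_num at h2
  obtain ⟨t, ht, -, htc⟩ := mu_pow i hi7
  have h1 : Φ ⟨t, ht⟩ * X7 * (Φ ⟨t, ht⟩)⁻¹ = X7 ^ i := by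
    rw [X7, ← map_mul, ← map_inv, ← map_mul, ← map_pow]
    exact congrArg Φ (Subtype.ext htc)
  have h2 : (n : G) * X7 * (n : G)⁻¹ = X7 ^ i := congrArg Subtype.val hi
  have h3 : (Φ ⟨t, ht⟩)⁻¹ * (n : G) ∈ centralizer ({X7} : Set G) := by
    rw [mem_centralizer_singleton_iff]
    calc (Φ ⟨t, ht⟩)⁻¹ * (n : G) * X7 = (Φ ⟨t, ht⟩)⁻¹ * ((n : G) * X7 * (n : G)⁻¹) * n := by group
      _ = (Φ ⟨t, ht⟩)⁻¹ * (Φ ⟨t, ht⟩ * X7 * (Φ ⟨t, ht⟩)⁻¹) * n := by rw [h2, h1]
      _ = _ := by group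
  have h4 := cent_X7_le h3
  rw [mem_subgroupOf]
  have h5 : (n : G) = Φ ⟨t, ht⟩ * ((Φ ⟨t, ht⟩)⁻¹ * (n : G)) := by group
  rw [h5]
  exact mul_mem ⟨_, rfl⟩ h4

/-- the order of `C(X1) ∩ A12` -/
theorem dvd_card : 544320 ∣ Nat.card ↥((Φ.range).subgroupOf (centralizer ({X1} : Set G))) := by
  have h1 : 181440 ∣ Nat.card ↥((Φ.range).subgroupOf (centralizer ({X1} : Set G))) := by
    rw [← card_range]
    refine card_dvd_of_le ?_
    rintro _ ⟨a, rfl⟩
    rw [mem_subgroupOf, Ψ_coe]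
    exact ⟨_, rfl⟩
  have h2 : 3 ^ 5 ∣ Nat.card ↥((Φ.range).subgroupOf (centralizer ({X1} : Set G))) := by
    have h3 : Nat.card ↥((D12.map Φ).subgroupOf (centralizer ({X1} : Set G))) = Nat.card ↥D12 := by
      rw [Nat.card_congr (subgroupOfEquivOfLe D12_le).toEquiv]
      exact (Nat.card_congr (D12.equivMapOfInjective Φ Φ_inj).toEquiv).symm
    have h4 : 3 ^ 5 ∣ Nat.card ↥((D12.map Φ).subgroupOf (centralizer ({X1} : Set G))) := by
      rw [h3]
      exact card_D12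
    refine h4.trans ?_
    refine card_dvd_of_le ?_
    rintro x ⟨a, -, ha⟩
    exact ⟨a, ha⟩
  have h3 : 2240 ∣ Nat.card ↥((Φ.range).subgroupOf (centralizer ({X1} : Set G))) := dvd_trans (by norm_num) h1
  exact (show 544320 ∣ 2240 * 3 ^ 5 by norm_num).trans (Nat.Coprime.mul_dvd_of_dvd_of_dvd (by norm_num) h3 h2)

theorem index_dvd : ((Φ.range).subgroupOf (centralizer ({X1} : Set G))).index ∣ 5 ^ 5 := by
  set A := (Φ.range).subgroupOf (centralizer ({X1} : Set G)) with hA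
  have h1 := A.card_mul_index
  have h2 : 544320 * A.index ∣ Nat.card ↥(centralizer ({X1} : Set G)) := by
    rw [← h1]
    exact Nat.mul_dvd_mul_right dvd_card _
  have h3 : A.index ∣ 3 * (11 * (19 * 5 ^ 5)) := by
    apply Nat.dvd_of_mul_dvd_mul_left (by norm_num : 0 < 544320)
    refine (h2.trans card_C_dvd).trans (dvd_of_eq (by norm_num))
  have h4 : ¬ 3 ∣ A.index := by
    rintro ⟨k, hk⟩
    apply card_X1
    refine dvd_trans ?_ h2
    rw [hk]
    exact ⟨2240 * k, by ring⟩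
  have h5 : ∀ r : ℕ, r ∣ A.index → r ∣ Nat.card ↥(centralizer ({X1} : Set G)) := fun r hr =>
    (hr.trans (Dvd.intro_left _ h1))
  have h11 : ¬ 11 ∣ A.index := fun h => not_dvd_of (by norm_num) (fun w hw => by
    rw [card_eleven hw]; norm_num) (h5 11 h)
  have h19 : ¬ 19 ∣ A.index := fun h => not_dvd_of (by norm_num) (fun w hw => by
    rw [card_nineteen hw]; norm_num) (h5 19 h)
  have e1 := (((Nat.Prime.coprime_iff_not_dvd (by norm_num)).2 h4).symm).dvd_of_dvd_mul_left h3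
  have e2 := (((Nat.Prime.coprime_iff_not_dvd (by norm_num)).2 h11).symm).dvd_of_dvd_mul_left e1
  exact (((Nat.Prime.coprime_iff_not_dvd (by norm_num)).2 h19).symm).dvd_of_dvd_mul_left e2

/-- **`C(X1) ≤ A12`** -/
theorem cent_X1_le : centralizer ({X1} : Set G) ≤ Φ.range := by
  rw [← subgroupOf_eq_top]
  have h7 : Fact (Nat.Prime 7) := ⟨by norm_num⟩
  obtain ⟨P, hP⟩ := exists_sylow (C := ↥(centralizer ({X1} : Set G))) (p := 7) (x := x7) (by
    intro h
    have h1 := h.trans card_C_dvd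
    norm_num at h1) order_x7
  have h1 := index_mod ((Φ.range).subgroupOf (centralizer ({X1} : Set G))) P (by rw [hP]; exact norm_le)
  obtain ⟨k, hk, h2⟩ := (Nat.dvd_prime_pow Nat.prime_five).1 index_dvd
  rw [h2] at h1
  rw [← index_eq_one, h2]
  interval_cases k
  · rfl
  all_goals exact absurd h1 (by decide)

/-- the elements of `C(X1)` are permutations -/
theorem exists_perm {y : G} (h : y * X1 = X1 * y) : ∃ f : A12, Φ f = y :=
  cent_X1_le (mem_centralizer_singleton_iff.2 h)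

end Cfsg.Agent.H187.Ore.HNX1
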